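import Mathlib
import Cfsg.Agent.Prune
set_option linter.all false
prune_inst 0x7f00000000000000000000000000000000000000000000000000000000000000000000000000000000000000000000000000000000000000000000000000000000000000000000000000000000000000003fffffffffffffffffffffffffffbeffbdffffffff
open scoped Cfsg.Agent.FastGrp

/-!
# Powers of 3×3 and 4×4 matrices by the Cayley–Hamilton recurrence

* `co3`, `co4`: coefficients of `X ^ n` modulo the characteristic polynomial.
* `ch3`, `ch4`: Cayley–Hamilton.
-/

set_option autoImplicit false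

namespace Cfsg.Agent.H422.Recur

open Matrix Polynomial

section
variable {R A : Type*} [CommRing R] [Ring A] [Algebra R A]

/-- Coefficients of `X ^ n` if `X ^ 3 = a X ^ 2 + b X + c`. -/
def co3 (a b c : R) : ℕ → R × R × R
  | 0 => (0, 0, 1)
  | n + 1 => ((co3 a b c n).1 * a + (co3 a b c n).2.1, (co3 a b c n).1 * b + (co3 a b c n).2.2,
      (co3 a b c n).1 * c)

theorem pow_co3 {a b c : R} {X : A} (h : X ^ 3 = a • X ^ 2 + b • X + c • (1 : A)) (n : ℕ) :
    X ^ n = (co3 a b c n).1 • X ^ 2 + (co3 a b c n).2.1 • X + (co3 a b c n).2.2 • (1 : A) := by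
  induction n with
  | zero => simp [co3]
  | succ n ih =>
    rw [pow_succ, ih]
    generalize hv : co3 a b c n = v at *
    simp only [co3, hv]
    rw [add_mul, add_mul, smul_mul_assoc, smul_mul_assoc, smul_mul_assoc, one_mul, ← pow_succ,
      ← pow_two, h]
    module

theorem scalar_co3 {a b c : R} {X : A} (h : X ^ 3 = a • X ^ 2 + b • X + c • (1 : A)) {n : ℕ}
    (h1 : (co3 a b c n).1 = 0) (h2 : (co3 a b c n).2.1 = 0) : ∃ r : R, X ^ n = r • (1 : A) :=
  ⟨_, by rw [pow_co3 h n, h1, h2, zero_smul, zero_smul, zero_add, zero_add]⟩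

/-- Coefficients of `X ^ n` if `X ^ 4 = a X ^ 3 + b X ^ 2 + c X + d`. -/
def co4 (a b c d : R) : ℕ → R × R × R × R
  | 0 => (0, 0, 0, 1)
  | n + 1 => ((co4 a b c d n).1 * a + (co4 a b c d n).2.1, (co4 a b c d n).1 * b + (co4 a b c d n).2.2.1,
      (co4 a b c d n).1 * c + (co4 a b c d n).2.2.2, (co4 a b c d n).1 * d)

theorem pow_co4 {a b c d : R} {X : A} (h : X ^ 4 = a • X ^ 3 + b • X ^ 2 + c • X + d • (1 : A)) (n : ℕ) :
    X ^ n = (co4 a b c d n).1 • X ^ 3 + (co4 a b c d n).2.1 • X ^ 2 + (co4 a b c d n).2.2.1 • X +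
      (co4 a b c d n).2.2.2 • (1 : A) := by
  induction n with
  | zero => simp [co4]
  | succ n ih =>
    rw [pow_succ, ih]
    generalize hv : co4 a b c d n = v at *
    simp only [co4, hv]
    rw [add_mul, add_mul, add_mul, smul_mul_assoc, smul_mul_assoc, smul_mul_assoc, smul_mul_assoc, one_mul,
      ← pow_succ, ← pow_succ, ← pow_two, h]
    module

theorem scalar_co4 {a b c d : R} {X : A} (h : X ^ 4 = a • X ^ 3 + b • X ^ 2 + c • X + d • (1 : A)) {n : ℕ}
    (h1 : (co4 a b c d n).1 = 0) (h2 : (co4 a b c d n).2.1 = 0) (h3 : (co4 a b c d n).2.2.1 = 0) :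
    ∃ r : R, X ^ n = r • (1 : A) :=
  ⟨_, by rw [pow_co4 h n, h1, h2, h3, zero_smul, zero_smul, zero_smul, zero_add, zero_add, zero_add]⟩

end

section
variable {F : Type*} [Field F]

theorem ch3 (X : Matrix (Fin 3) (Fin 3) F) :
    X ^ 3 = X.trace • X ^ 2 + (-(adjugate X).trace) • X + X.det • (1 : Matrix (Fin 3) (Fin 3) F) := by
  rw [pow_succ, pow_two, Matrix.adjugate_fin_three, Matrix.det_fin_three, Matrix.trace_fin_three,
    Matrix.trace_fin_three]
  ext i j
  fin_cases i <;> fin_cases j <;>
    simp [Matrix.mul_apply, Fin.sum_univ_three] <;> ring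

/-- Cayley–Hamilton in degree 4. -/
theorem ch4 (X : Matrix (Fin 4) (Fin 4) F) :
    X ^ 4 = (-X.charpoly.coeff 3) • X ^ 3 + (-X.charpoly.coeff 2) • X ^ 2 + (-X.charpoly.coeff 1) • X +
      (-X.det) • (1 : Matrix (Fin 4) (Fin 4) F) := by
  have h := Matrix.aeval_self_charpoly X
  rw [Polynomial.aeval_eq_sum_range, Matrix.charpoly_natDegree_eq_dim, Fintype.card_fin,
    Finset.sum_range_succ, Finset.sum_range_succ, Finset.sum_range_succ, Finset.sum_range_succ,
    Finset.sum_range_one] at h
  have h4 : X.charpoly.coeff 4 = 1 := by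
    have := X.charpoly_monic.coeff_natDegree
    rwa [Matrix.charpoly_natDegree_eq_dim, Fintype.card_fin] at this
  have h0 : X.charpoly.coeff 0 = X.det := by
    rw [Matrix.det_eq_sign_charpoly_coeff, Fintype.card_fin]
    norm_num
  rw [h4, h0, one_smul, pow_zero, pow_one] at h
  rw [← sub_eq_zero, ← h]
  module

/-- the coefficients for a matrix of determinant one whose inverse is similar to its conjugate -/
theorem coeff_inv (X Y : Matrix (Fin 4) (Fin 4) F) (h : Y * X = 1) (hd : X.det = 1) :
    (∀ i ≤ 4, Y.charpoly.coeff i = X.charpoly.coeff (4 - i)) := by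
  have hY : Y = X⁻¹ := by
    rw [eq_comm]
    exact Matrix.inv_eq_left_inv h
  have hX : IsUnit X := (Matrix.isUnit_iff_isUnit_det X).2 (by rw [hd]; exact isUnit_one)
  intro i hi
  rw [hY, Matrix.charpoly_inv X hX, hd, Ring.inverse_one, map_one, mul_one, Fintype.card_fin,
    ← Matrix.reverse_charpoly]
  norm_num
  rw [Polynomial.coeff_reverse, Matrix.charpoly_natDegree_eq_dim, Fintype.card_fin,
    Polynomial.revAt_le hi]

end

end Cfsg.Agent.H422.Recur

private theorem dce_e44a8bec8a4b : _root_.True := by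
  try have : _root_.True := by simp only [_root_.Cfsg.Agent.H422.Recur.co3.eq_2]
  try have : _root_.True := by simp only [_root_.Cfsg.Agent.H422.Recur.co4.eq_2]
  try have : _root_.True := by simp only [_root_.Cfsg.Agent.H422.Recur.co3.eq_def]
  try have : _root_.True := by simp only [_root_.Cfsg.Agent.H422.Recur.co4.eq_def]
  try have : _root_.True := by simp only [_root_.Cfsg.Agent.H422.Recur.co3.eq_1]
  try have : _root_.True := by simp only [_root_.Cfsg.Agent.H422.Recur.co4.eq_1]
  exact _root_.True.intro
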