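import Mathlib
import Cfsg.Agent.H363.AltPrimes
import Cfsg.Prelude.Def_Classical
import Cfsg.Agent.Prune
set_option linter.all false

section
prune_inst 0x7f00000000000000000000000000000000000000000000000000000000000000000000000000000000000000000000000000000000000000000000000000000000000000000000000000000000000000003fffffffffffffffffffffffffffbeffbdffffffff

-- part: H422/ElimAlt
section
set_option linter.all false
open scoped Cfsg.Agent.FastGrp

/-!
# Elements of order `pq` : a criterion, and order fifteen in alternating groups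
-/

set_option autoImplicit false

open Equiv

namespace Cfsg.Agent.H422.Elim

theorem orderOf_pq {G : Type*} [Group G] {g : G} {p q : ℕ} (hp : p.Prime) (hq : q.Prime)
    (h : g ^ (p * q) = 1) (h1 : g ^ p ≠ 1) (h2 : g ^ q ≠ 1) : orderOf g = p * q := by
  refine orderOf_eq_of_pow_and_pow_div_prime (Nat.mul_pos hp.pos hq.pos) h ?_
  intro r hr hd
  rcases (Nat.Prime.dvd_mul hr).1 hd with h3 | h3
  · rw [(Nat.prime_dvd_prime_iff_eq hr hp).1 h3, Nat.mul_div_cancel_left _ hp.pos]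
    exact h2
  · rw [(Nat.prime_dvd_prime_iff_eq hr hq).1 h3, Nat.mul_div_cancel _ hq.pos]
    exact h1

/-- in a central quotient -/
theorem orderOf_pq_mk {G : Type*} [Group G] {g u v : G} {p q : ℕ} (hp : p.Prime) (hq : q.Prime)
    (h : g ^ (p * q) = 1) (h1 : g ^ p * u ≠ u * g ^ p) (h2 : g ^ q * v ≠ v * g ^ q) :
    orderOf (QuotientGroup.mk g : G ⧸ Subgroup.center G) = p * q := by
  refine orderOf_pq hp hq ?_ ?_ ?_
  · rw [← QuotientGroup.mk_pow, h, QuotientGroup.mk_one]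
  · intro h3
    rw [← QuotientGroup.mk_pow, QuotientGroup.eq_one_iff] at h3
    exact h1 (Subgroup.mem_center_iff.1 h3 u).symm
  · intro h3
    rw [← QuotientGroup.mk_pow, QuotientGroup.eq_one_iff] at h3
    exact h2 (Subgroup.mem_center_iff.1 h3 v).symm

theorem exists_of_equiv {G H : Type*} [Group G] [Group H] (e : G ≃* H) {n : ℕ}
    (h : ∃ g : H, orderOf g = n) : ∃ g : G, orderOf g = n := by
  obtain ⟨g, hg⟩ := h
  exact ⟨e.symm g, by rw [MulEquiv.orderOf_eq]; exact hg⟩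

def c8 : Perm (Fin 8) := swap (0 : Fin 8) 1 * swap (1 : Fin 8) 2 * (swap (3 : Fin 8) 4 * swap (4 : Fin 8) 5 * swap (5 : Fin 8) 6 * swap (6 : Fin 8) 7)
def c9 : Perm (Fin 9) := swap (0 : Fin 9) 1 * swap (1 : Fin 9) 2 * (swap (3 : Fin 9) 4 * swap (4 : Fin 9) 5 * swap (5 : Fin 9) 6 * swap (6 : Fin 9) 7)
def c10 : Perm (Fin 10) := swap (0 : Fin 10) 1 * swap (1 : Fin 10) 2 * (swap (3 : Fin 10) 4 * swap (4 : Fin 10) 5 * swap (5 : Fin 10) 6 * swap (6 : Fin 10) 7)

theorem alt_eight : ∃ g : alternatingGroup (Fin 8), orderOf g = 3 * 5 :=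
  ⟨⟨c8, by rw [Perm.mem_alternatingGroup]; decide +kernel⟩, by
    rw [← Subgroup.orderOf_coe]
    exact orderOf_pq (g := c8) (by norm_num) (by norm_num) (by decide +kernel) (by decide +kernel)
      (by decide +kernel)⟩

theorem alt_nine : ∃ g : alternatingGroup (Fin 9), orderOf g = 3 * 5 :=
  ⟨⟨c9, by rw [Perm.mem_alternatingGroup]; decide +kernel⟩, by
    rw [← Subgroup.orderOf_coe]
    exact orderOf_pq (g := c9) (by norm_num) (by norm_num) (by decide +kernel) (by decide +kernel)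
      (by decide +kernel)⟩

theorem alt_ten : ∃ g : alternatingGroup (Fin 10), orderOf g = 3 * 5 :=
  ⟨⟨c10, by rw [Perm.mem_alternatingGroup]; decide +kernel⟩, by
    rw [← Subgroup.orderOf_coe]
    exact orderOf_pq (g := c10) (by norm_num) (by norm_num) (by decide +kernel) (by decide +kernel)
      (by decide +kernel)⟩

end Cfsg.Agent.H422.Elim
end

-- part: H422/Graph
section
set_option linter.all false
open scoped Cfsg.Agent.FastGrp

/-!
# The prime graph `2 - 3`, `5`, `7`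

`Good G`: the prime divisors of `|G|` are `2, 3, 5, 7`, there are elements of order `6` and no
elements of order `10, 14, 15, 21, 35`. `good_alt`: the alternating group of degree seven.
-/

set_option autoImplicit false

namespace Cfsg.Agent.H422.Graph

open Cfsg.Agent.H363.AltPrimes Equiv

/-- The prime graph of `A₇`. -/
structure Good (G : Type*) [Group G] : Prop where
  pf : (Nat.card G).primeFactors = {2, 3, 5, 7}
  six : ∃ g : G, orderOf g = 2 * 3
  no10 : ∀ g : G, orderOf g ≠ 2 * 5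
  no14 : ∀ g : G, orderOf g ≠ 2 * 7
  no15 : ∀ g : G, orderOf g ≠ 3 * 5
  no21 : ∀ g : G, orderOf g ≠ 3 * 7
  no35 : ∀ g : G, orderOf g ≠ 5 * 7

theorem mem_pf {n : ℕ} (h : n.primeFactors = {2, 3, 5, 7}) {p : ℕ} (hp : p.Prime) :
    p ∣ n ↔ p = 2 ∨ p = 3 ∨ p = 5 ∨ p = 7 := by
  have hn : n ≠ 0 := by
    rintro rfl
    rw [Nat.primeFactors_zero] at h
    exact absurd (h ▸ Finset.mem_insert_self 2 _ : (2 : ℕ) ∈ (∅ : Finset ℕ)) (Finset.notMem_empty 2)
  have h1 : p ∈ n.primeFactors ↔ p ∈ ({2, 3, 5, 7} : Finset ℕ) := by rw [h]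
  rw [Nat.mem_primeFactors] at h1
  simp only [Finset.mem_insert, Finset.mem_singleton] at h1
  rw [← h1]
  exact ⟨fun h2 => ⟨hp, h2, hn⟩, fun h2 => h2.2.1⟩

section
variable {G H : Type*} [Group G] [Group H]

/-- pairs of adjacent primes in a good group -/
theorem Good.adj [Finite G] (h : Good G) {p q : ℕ} (hp : p.Prime) (hq : q.Prime) (hpq : p ≠ q) :
    (∃ g : G, orderOf g = p * q) ↔ (p = 2 ∧ q = 3) ∨ (p = 3 ∧ q = 2) := by
  constructor
  · rintro ⟨g, hg⟩
    have hd : p * q ∣ Nat.card G := hg ▸ orderOf_dvd_natCard g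
    have h1 := (mem_pf h.pf hp).1 ((dvd_mul_right p q).trans hd)
    have h2 := (mem_pf h.pf hq).1 ((dvd_mul_left q p).trans hd)
    have e10 := h.no10 g
    have e14 := h.no14 g
    have e15 := h.no15 g
    have e21 := h.no21 g
    have e35 := h.no35 g
    rw [hg] at e10 e14 e15 e21 e35
    rcases h1 with rfl | rfl | rfl | rfl <;> rcases h2 with rfl | rfl | rfl | rfl <;>
      first
      | exact absurd rfl hpq
      | exact Or.inl ⟨rfl, rfl⟩
      | exact Or.inr ⟨rfl, rfl⟩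
      | omega
  · rintro (⟨rfl, rfl⟩ | ⟨rfl, rfl⟩)
    · exact h.six
    · obtain ⟨g, hg⟩ := h.six
      exact ⟨g, by rw [hg]⟩

/-- two good groups have the same prime graph -/
theorem Good.same [Finite G] [Finite H] (hG : Good G) (hH : Good H) :
    (∀ p : ℕ, p.Prime → (p ∣ Nat.card G ↔ p ∣ Nat.card H)) ∧
      (∀ p q : ℕ, p.Prime → q.Prime → p ≠ q →
        ((∃ g : G, orderOf g = p * q) ↔ (∃ g : H, orderOf g = p * q))) :=
  ⟨fun _ hp => (mem_pf hG.pf hp).trans (mem_pf hH.pf hp).symm,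
    fun _ _ hp hq hpq => (hG.adj hp hq hpq).trans (hH.adj hp hq hpq).symm⟩

/-- a group with the prime graph of a good group is good -/
theorem Good.of_same [Finite G] [Finite H] (hG : Good G)
    (h : (∀ p : ℕ, p.Prime → (p ∣ Nat.card G ↔ p ∣ Nat.card H)) ∧
      (∀ p q : ℕ, p.Prime → q.Prime → p ≠ q →
        ((∃ g : G, orderOf g = p * q) ↔ (∃ g : H, orderOf g = p * q)))) : Good H := by
  refine ⟨?_, (h.2 2 3 (by norm_num) (by norm_num) (by norm_num)).1 hG.six, ?_, ?_, ?_, ?_, ?_⟩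
  · rw [← hG.pf]
    ext p
    rw [Nat.mem_primeFactors, Nat.mem_primeFactors]
    constructor
    · rintro ⟨h1, h2, h3⟩
      exact ⟨h1, (h.1 p h1).2 h2, Nat.card_pos.ne'⟩
    · rintro ⟨h1, h2, h3⟩
      exact ⟨h1, (h.1 p h1).1 h2, Nat.card_pos.ne'⟩
  · intro g hg
    obtain ⟨x, hx⟩ := (h.2 2 5 (by norm_num) (by norm_num) (by norm_num)).2 ⟨g, hg⟩
    exact hG.no10 x hx
  · intro g hg
    obtain ⟨x, hx⟩ := (h.2 2 7 (by norm_num) (by norm_num) (by norm_num)).2 ⟨g, hg⟩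
    exact hG.no14 x hx
  · intro g hg
    obtain ⟨x, hx⟩ := (h.2 3 5 (by norm_num) (by norm_num) (by norm_num)).2 ⟨g, hg⟩
    exact hG.no15 x hx
  · intro g hg
    obtain ⟨x, hx⟩ := (h.2 3 7 (by norm_num) (by norm_num) (by norm_num)).2 ⟨g, hg⟩
    exact hG.no21 x hx
  · intro g hg
    obtain ⟨x, hx⟩ := (h.2 5 7 (by norm_num) (by norm_num) (by norm_num)).2 ⟨g, hg⟩
    exact hG.no35 x hx

/-- exponents which exclude the orders `10, 14, 15, 21, 35` -/
def Ok (k : ℕ) : Prop := 0 < k ∧ ¬ 10 ∣ k ∧ ¬ 14 ∣ k ∧ ¬ 15 ∣ k ∧ ¬ 21 ∣ k ∧ ¬ 35 ∣ k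

instance decOk (k : ℕ) : Decidable (Ok k) := by unfold Ok; infer_instance

theorem good_of_pow (hpf : (Nat.card G).primeFactors = {2, 3, 5, 7})
    (h6 : ∃ g : G, orderOf g = 2 * 3) (h : ∀ g : G, ∃ k, Ok k ∧ g ^ k = 1) : Good G := by
  have key : ∀ g : G, ¬ 10 ∣ orderOf g ∧ ¬ 14 ∣ orderOf g ∧ ¬ 15 ∣ orderOf g ∧ ¬ 21 ∣ orderOf g ∧
      ¬ 35 ∣ orderOf g := by
    intro g
    obtain ⟨k, ⟨-, h1, h2, h3, h4, h5⟩, hk⟩ := h g
    have hd := orderOf_dvd_of_pow_eq_one hk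
    exact ⟨fun h => h1 (h.trans hd), fun h => h2 (h.trans hd), fun h => h3 (h.trans hd),
      fun h => h4 (h.trans hd), fun h => h5 (h.trans hd)⟩
  refine ⟨hpf, h6, ?_, ?_, ?_, ?_, ?_⟩ <;> intro g hg <;> have h1 := key g <;> rw [hg] at h1 <;>
    revert h1 <;> decide

theorem Good.of_equiv (e : G ≃* H) (h : Good G) : Good H := by
  refine ⟨?_, ?_, ?_, ?_, ?_, ?_, ?_⟩
  · rw [← h.pf, Nat.card_congr e.toEquiv]
  · obtain ⟨g, hg⟩ := h.six
    exact ⟨e g, by rw [MulEquiv.orderOf_eq]; exact hg⟩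
  · intro g hg
    exact h.no10 (e.symm g) (by rw [MulEquiv.orderOf_eq]; exact hg)
  · intro g hg
    exact h.no14 (e.symm g) (by rw [MulEquiv.orderOf_eq]; exact hg)
  · intro g hg
    exact h.no15 (e.symm g) (by rw [MulEquiv.orderOf_eq]; exact hg)
  · intro g hg
    exact h.no21 (e.symm g) (by rw [MulEquiv.orderOf_eq]; exact hg)
  · intro g hg
    exact h.no35 (e.symm g) (by rw [MulEquiv.orderOf_eq]; exact hg)

end

section alt

theorem perm_no {p s : ℕ} (hp : p.Prime) (hs : s.Prime) (hps : p ≠ s) (h1 : 7 < p + s)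
    (h2 : 7 < p * s) (σ : Perm (Fin 7)) : orderOf σ ≠ p * s := by
  intro hσ
  obtain ⟨c, hc, hpc⟩ := exists_dvd_cycleType σ hp (by rw [hσ]; exact dvd_mul_right _ _)
  obtain ⟨d, hd, hsd⟩ := exists_dvd_cycleType σ hs (by rw [hσ]; exact dvd_mul_left _ _)
  have hsum : σ.cycleType.sum ≤ 7 := by
    rw [Equiv.Perm.sum_cycleType]
    simpa using σ.support.card_le_univ
  have hcpos : 0 < c := lt_of_lt_of_le two_pos (Equiv.Perm.two_le_of_mem_cycleType hc)
  have hdpos : 0 < d := lt_of_lt_of_le two_pos (Equiv.Perm.two_le_of_mem_cycleType hd)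
  have hpc' := Nat.le_of_dvd hcpos hpc
  have hsd' := Nat.le_of_dvd hdpos hsd
  obtain ⟨t, ht⟩ := Multiset.exists_cons_of_mem hc
  by_cases hcd : c = d
  · subst hcd
    have h3 : p * s ∣ c := (Nat.Coprime.mul_dvd_of_dvd_of_dvd
      ((Nat.coprime_primes hp hs).mpr hps) hpc hsd)
    have h4 := Nat.le_of_dvd hcpos h3
    have h5 : c ≤ 7 := by
      rw [ht, Multiset.sum_cons] at hsum
      omega
    omega
  · have hd' : d ∈ t := by
      rw [ht] at hd
      rcases Multiset.mem_cons.mp hd with h | h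
      · exact absurd h.symm hcd
      · exact h
    obtain ⟨u, hu⟩ := Multiset.exists_cons_of_mem hd'
    rw [ht, hu, Multiset.sum_cons, Multiset.sum_cons] at hsum
    omega

theorem perm_ten (σ : Perm (Fin 7)) (h : Perm.sign σ = 1) : orderOf σ ≠ 2 * 5 := by
  intro hσ
  obtain ⟨c, hc, hpc⟩ := exists_dvd_cycleType σ (p := 5) (by norm_num) (by rw [hσ]; norm_num)
  obtain ⟨d, hd, hsd⟩ := exists_dvd_cycleType σ (p := 2) (by norm_num) (by rw [hσ]; norm_num)
  have hsum : σ.cycleType.sum ≤ 7 := by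
    rw [Equiv.Perm.sum_cycleType]
    simpa using σ.support.card_le_univ
  have hcpos : 0 < c := lt_of_lt_of_le two_pos (Equiv.Perm.two_le_of_mem_cycleType hc)
  have hdpos : 0 < d := lt_of_lt_of_le two_pos (Equiv.Perm.two_le_of_mem_cycleType hd)
  obtain ⟨t, ht⟩ := Multiset.exists_cons_of_mem hc
  have hc7 : c ≤ 7 := by
    rw [ht, Multiset.sum_cons] at hsum
    omega
  have hc5 : c = 5 := by omega
  subst hc5
  have hne : (5 : ℕ) ≠ d := by rintro rfl; omega
  have hd' : d ∈ t := by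
    rw [ht] at hd
    rcases Multiset.mem_cons.mp hd with h | h
    · exact absurd h.symm hne
    · exact h
  obtain ⟨u, hu⟩ := Multiset.exists_cons_of_mem hd'
  rw [ht, hu, Multiset.sum_cons, Multiset.sum_cons] at hsum
  have hd2 : d = 2 := by
    have := Nat.le_of_dvd hdpos hsd
    omega
  subst hd2
  have hu0 : u = 0 := by
    rw [Multiset.eq_zero_iff_forall_notMem]
    intro x hx
    have h1 : 2 ≤ x := Equiv.Perm.two_le_of_mem_cycleType (σ := σ) (by
      rw [ht, hu]; exact Multiset.mem_cons_of_mem (Multiset.mem_cons_of_mem hx))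
    have h2 : x ≤ u.sum := Multiset.single_le_sum (fun _ _ => Nat.zero_le _) x hx
    omega
  have h3 := Equiv.Perm.sign_of_cycleType σ
  rw [ht, hu, hu0, h] at h3
  revert h3
  decide

def six7 : Perm (Fin 7) := swap 0 1 * swap 1 2 * (swap 3 4 * swap 5 6)

theorem good_alt : Good (alternatingGroup (Fin 7)) := by
  have hc : Nat.card (alternatingGroup (Fin 7)) = 2520 := by
    rw [nat_card_alternatingGroup, Nat.card_eq_fintype_card, Fintype.card_fin]
    rfl
  have key : ∀ {p s : ℕ}, p.Prime → s.Prime → p ≠ s → 7 < p + s → 7 < p * s →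
      ∀ g : alternatingGroup (Fin 7), orderOf g ≠ p * s := by
    intro p s hp hs hps h1 h2 g
    rw [← Subgroup.orderOf_coe]
    exact perm_no hp hs hps h1 h2 _
  refine ⟨?_, ?_, ?_, ?_, ?_, ?_, ?_⟩
  · rw [hc]
    decide +kernel
  · refine ⟨⟨six7, by rw [Perm.mem_alternatingGroup]; decide +kernel⟩, ?_⟩
    rw [← Subgroup.orderOf_coe]
    exact Cfsg.Agent.H422.Elim.orderOf_pq (g := six7) (by norm_num) (by norm_num)
      (by decide +kernel) (by decide +kernel) (by decide +kernel)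
  · intro g
    rw [← Subgroup.orderOf_coe]
    exact perm_ten _ (Perm.mem_alternatingGroup.1 g.2)
  · exact key (by norm_num) (by norm_num) (by norm_num) (by norm_num) (by norm_num)
  · exact key (by norm_num) (by norm_num) (by norm_num) (by norm_num) (by norm_num)
  · exact key (by norm_num) (by norm_num) (by norm_num) (by norm_num) (by norm_num)
  · exact key (by norm_num) (by norm_num) (by norm_num) (by norm_num) (by norm_num)

end alt

end Cfsg.Agent.H422.Graph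
end

-- part: H422/ElimSp
section
set_option linter.all false
open scoped Cfsg.Agent.FastGrp

/-!
# Elements of order 14 in `PSp₄(7)` and of order 15 in `PSp₆(2)`
-/

set_option autoImplicit false

open Matrix Cfsg

namespace Cfsg.Agent.H422.Elim

local instance fact_seven : Fact (Nat.Prime 7) := ⟨by norm_num⟩

theorem sp_coe_pow {l R : Type*} [Fintype l] [DecidableEq l] [CommRing R]
    (g : symplecticGroup l R) (n : ℕ) : ((g ^ n : symplecticGroup l R) : Matrix (l ⊕ l) (l ⊕ l) R) =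
      (g : Matrix (l ⊕ l) (l ⊕ l) R) ^ n := rfl

def psp_two_sevenM : Matrix (Fin 2 ⊕ Fin 2) (Fin 2 ⊕ Fin 2) (ZMod 7) := fromBlocks !![6, 0; 0, 1] !![0, 0; 0, 1] !![0, 0; 0, 0] !![6, 0; 0, 1]
def psp_two_sevenA : Matrix (Fin 2 ⊕ Fin 2) (Fin 2 ⊕ Fin 2) (ZMod 7) := fromBlocks !![1, 0; 0, 1] !![0, 0; 0, 2] !![0, 0; 0, 0] !![1, 0; 0, 1]
def psp_two_sevenB : Matrix (Fin 2 ⊕ Fin 2) (Fin 2 ⊕ Fin 2) (ZMod 7) := fromBlocks !![6, 0; 0, 1] !![0, 0; 0, 0] !![0, 0; 0, 0] !![6, 0; 0, 1]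
def psp_two_sevenU : Matrix (Fin 2 ⊕ Fin 2) (Fin 2 ⊕ Fin 2) (ZMod 7) := fromBlocks !![0, 1; 1, 0] !![0, 0; 0, 0] !![0, 0; 0, 0] !![0, 1; 1, 0]
theorem psp_two_seven_a : psp_two_sevenM ^ 2 = psp_two_sevenA := by rw [pow_two]; decide +kernel
def psp_two_sevenD : Matrix (Fin 2 ⊕ Fin 2) (Fin 2 ⊕ Fin 2) (ZMod 7) := fromBlocks !![1, 0; 0, 1] !![0, 0; 0, 6] !![0, 0; 0, 0] !![1, 0; 0, 1]
def psp_two_sevenE : Matrix (Fin 2 ⊕ Fin 2) (Fin 2 ⊕ Fin 2) (ZMod 7) := fromBlocks !![1, 0; 0, 1] !![0, 0; 0, 4] !![0, 0; 0, 0] !![1, 0; 0, 1]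
theorem psp_two_seven_e : psp_two_sevenM ^ 4 = psp_two_sevenE := by rw [show 4 = 2 * 2 from rfl, pow_mul, psp_two_seven_a, pow_two]; decide +kernel
theorem psp_two_seven_d : psp_two_sevenM ^ 6 = psp_two_sevenD := by rw [show 6 = 4 + 2 from rfl, pow_add, psp_two_seven_a, psp_two_seven_e]; decide +kernel
theorem psp_two_seven_b : psp_two_sevenM ^ 7 = psp_two_sevenB := by rw [pow_succ, psp_two_seven_d]; decide +kernel
theorem psp_two_seven_ab : psp_two_sevenM ^ (2 * 7) = 1 := by rw [mul_comm, pow_mul, psp_two_seven_b, pow_two]; decide +kernel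
def psp_two_seveng : symplecticGroup (Fin 2) (ZMod 7) := ⟨psp_two_sevenM, (SymplecticGroup.mem_iff (A := psp_two_sevenM)).2 (by decide +kernel)⟩
def psp_two_sevenu : symplecticGroup (Fin 2) (ZMod 7) := ⟨psp_two_sevenU, (SymplecticGroup.mem_iff (A := psp_two_sevenU)).2 (by decide +kernel)⟩

theorem psp_two_seven : ∃ g : PSp 2 (ZMod 7), orderOf g = 2 * 7 := by
  refine ⟨QuotientGroup.mk psp_two_seveng, orderOf_pq_mk (u := psp_two_sevenu) (v := psp_two_sevenu) (by norm_num) (by norm_num) ?_ ?_ ?_⟩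
  · exact Subtype.ext ((sp_coe_pow _ _).trans psp_two_seven_ab)
  · intro h
    have h2 : psp_two_sevenM ^ 2 * psp_two_sevenU = psp_two_sevenU * psp_two_sevenM ^ 2 := congrArg Subtype.val h
    rw [psp_two_seven_a] at h2
    exact absurd h2 (by decide +kernel)
  · intro h
    have h2 : psp_two_sevenM ^ 7 * psp_two_sevenU = psp_two_sevenU * psp_two_sevenM ^ 7 := congrArg Subtype.val h
    rw [psp_two_seven_b] at h2
    exact absurd h2 (by decide +kernel)

def psp_three_twoM : Matrix (Fin 3 ⊕ Fin 3) (Fin 3 ⊕ Fin 3) (ZMod 2) := fromBlocks !![0, 0, 0; 0, 1, 1; 0, 0, 0] !![1, 0, 0; 0, 1, 0; 0, 1, 1] !![1, 0, 0; 0, 1, 1; 0, 0, 1] !![1, 0, 0; 0, 0, 0; 0, 0, 0]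
def psp_three_twoA : Matrix (Fin 3 ⊕ Fin 3) (Fin 3 ⊕ Fin 3) (ZMod 2) := fromBlocks !![1, 0, 0; 0, 0, 1; 0, 1, 1] !![0, 0, 0; 0, 0, 0; 0, 1, 0] !![0, 0, 0; 0, 1, 0; 0, 1, 0] !![1, 0, 0; 0, 0, 1; 0, 0, 0]
def psp_three_twoB : Matrix (Fin 3 ⊕ Fin 3) (Fin 3 ⊕ Fin 3) (ZMod 2) := fromBlocks !![1, 0, 0; 0, 1, 0; 0, 0, 1] !![1, 0, 0; 0, 0, 0; 0, 0, 0] !![1, 0, 0; 0, 0, 0; 0, 0, 0] !![0, 0, 0; 0, 1, 0; 0, 0, 1]
def psp_three_twoU : Matrix (Fin 3 ⊕ Fin 3) (Fin 3 ⊕ Fin 3) (ZMod 2) := fromBlocks !![0, 1, 0; 1, 0, 0; 0, 0, 1] !![0, 0, 0; 0, 0, 0; 0, 0, 0] !![0, 0, 0; 0, 0, 0; 0, 0, 0] !![0, 1, 0; 1, 0, 0; 0, 0, 1]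
def psp_three_twoC : Matrix (Fin 3 ⊕ Fin 3) (Fin 3 ⊕ Fin 3) (ZMod 2) := fromBlocks !![1, 0, 0; 0, 0, 0; 0, 1, 0] !![1, 0, 0; 0, 0, 1; 0, 0, 0] !![1, 0, 0; 0, 1, 1; 0, 0, 0] !![0, 0, 0; 0, 0, 1; 0, 1, 1]
theorem psp_three_two_c : psp_three_twoM ^ 2 = psp_three_twoC := by rw [pow_two]; decide +kernel
theorem psp_three_two_a : psp_three_twoM ^ 3 = psp_three_twoA := by rw [pow_succ, psp_three_two_c]; decide +kernel
theorem psp_three_two_b : psp_three_twoM ^ 5 = psp_three_twoB := by rw [show 5 = 3 + 2 from rfl, pow_add, psp_three_two_a, psp_three_two_c]; decide +kernel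
def psp_three_twoD : Matrix (Fin 3 ⊕ Fin 3) (Fin 3 ⊕ Fin 3) (ZMod 2) := fromBlocks !![0, 0, 0; 0, 1, 0; 0, 0, 1] !![1, 0, 0; 0, 0, 0; 0, 0, 0] !![1, 0, 0; 0, 0, 0; 0, 0, 0] !![1, 0, 0; 0, 1, 0; 0, 0, 1]
theorem psp_three_two_d : psp_three_twoB ^ 2 = psp_three_twoD := by rw [pow_two]; decide +kernel
theorem psp_three_two_ab : psp_three_twoM ^ (3 * 5) = 1 := by rw [mul_comm, pow_mul, psp_three_two_b, pow_succ, psp_three_two_d]; decide +kernel
def psp_three_twog : symplecticGroup (Fin 3) (ZMod 2) := ⟨psp_three_twoM, (SymplecticGroup.mem_iff (A := psp_three_twoM)).2 (by decide +kernel)⟩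
def psp_three_twou : symplecticGroup (Fin 3) (ZMod 2) := ⟨psp_three_twoU, (SymplecticGroup.mem_iff (A := psp_three_twoU)).2 (by decide +kernel)⟩

theorem psp_three_two : ∃ g : PSp 3 (ZMod 2), orderOf g = 3 * 5 := by
  refine ⟨QuotientGroup.mk psp_three_twog, orderOf_pq_mk (u := psp_three_twou) (v := psp_three_twou) (by norm_num) (by norm_num) ?_ ?_ ?_⟩
  · exact Subtype.ext ((sp_coe_pow _ _).trans psp_three_two_ab)
  · intro h
    have h2 : psp_three_twoM ^ 3 * psp_three_twoU = psp_three_twoU * psp_three_twoM ^ 3 := congrArg Subtype.val h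
    rw [psp_three_two_a] at h2
    exact absurd h2 (by decide +kernel)
  · intro h
    have h2 : psp_three_twoM ^ 5 * psp_three_twoU = psp_three_twoU * psp_three_twoM ^ 5 := congrArg Subtype.val h
    rw [psp_three_two_b] at h2
    exact absurd h2 (by decide +kernel)

end Cfsg.Agent.H422.Elim
end

-- part: H422/ElimOmega
section
set_option linter.all false
open scoped Cfsg.Agent.FastGrp

/-!
# Elements of order 15 in `PΩ⁺₈(2)`
-/

set_option autoImplicit false

open Matrix Cfsg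

namespace Cfsg.Agent.H422.Elim

/-- the Levi homomorphism `A ↦ A ⊕ A⁻ᵀ` to matrices -/
def leviMat (m : ℕ) (F : Type*) [Field F] : GL (Fin m) F →* Matrix (Fin m ⊕ Fin m) (Fin m ⊕ Fin m) F where
  toFun A := fromBlocks (A : Matrix (Fin m) (Fin m) F) 0 0
    ((A⁻¹ : GL (Fin m) F) : Matrix (Fin m) (Fin m) F)ᵀ
  map_one' := by simp
  map_mul' A B := by
    rw [fromBlocks_multiply]
    simp only [_root_.mul_inv_rev, Matrix.transpose_mul, _root_.Units.val_mul, _root_.Matrix.coe_units_inv, _root_.MulZeroClass.mul_zero, _root_.add_zero, _root_.MulZeroClass.zero_mul, _root_.zero_add]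

theorem quadFormPlus_levi {m : ℕ} {F : Type*} [Field F] (A : GL (Fin m) F)
    (u : Fin m ⊕ Fin m → F) :
    quadFormPlus m F (leviMat m F A *ᵥ u) = quadFormPlus m F u := by
  have h1 : ∀ w : Fin m ⊕ Fin m → F,
      quadFormPlus m F w = (fun i => w (Sum.inl i)) ⬝ᵥ (fun i => w (Sum.inr i)) := fun w => rfl
  have h2 : leviMat m F A *ᵥ u = Sum.elim ((A : Matrix (Fin m) (Fin m) F) *ᵥ (fun i => u (Sum.inl i)))
      (((A⁻¹ : GL (Fin m) F) : Matrix (Fin m) (Fin m) F)ᵀ *ᵥ (fun i => u (Sum.inr i))) := by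
    have : u = Sum.elim (fun i => u (Sum.inl i)) (fun i => u (Sum.inr i)) := by
      ext x; cases x <;> rfl
    conv_lhs => rw [this]
    change fromBlocks _ _ _ _ *ᵥ _ = _
    rw [fromBlocks_mulVec]
    simp [Function.comp_def]
  rw [h1, h1, h2]
  simp only [Sum.elim_inl, Sum.elim_inr]
  rw [show (fun i => ((A : Matrix (Fin m) (Fin m) F) *ᵥ fun i => u (Sum.inl i)) i) =
    (A : Matrix (Fin m) (Fin m) F) *ᵥ (fun i => u (Sum.inl i)) from rfl,
    show (fun i => (((A⁻¹ : GL (Fin m) F) : Matrix (Fin m) (Fin m) F)ᵀ *ᵥ fun i => u (Sum.inr i)) i) =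
    ((A⁻¹ : GL (Fin m) F) : Matrix (Fin m) (Fin m) F)ᵀ *ᵥ (fun i => u (Sum.inr i)) from rfl]
  rw [Matrix.mulVec_transpose, dotProduct_comm, ← Matrix.dotProduct_mulVec,
    Matrix.mulVec_mulVec, ← Units.val_mul, inv_mul_cancel, Units.val_one, Matrix.one_mulVec,
    dotProduct_comm]

/-- the Levi homomorphism to the isometry group -/
def levi (m : ℕ) (F : Type*) [Field F] : GL (Fin m) F →* isometryGroup F (quadFormPlus m F) :=
  ((leviMat m F).toHomUnits).codRestrict _ (fun A u _ => quadFormPlus_levi A u)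

theorem levi_inj {m : ℕ} {F : Type*} [Field F] : Function.Injective (levi m F) := by
  intro A B h
  have h0 : (leviMat m F).toHomUnits A = (leviMat m F).toHomUnits B := congrArg Subtype.val h
  have h1 : leviMat m F A = leviMat m F B := congrArg Units.val h0
  exact Units.ext ((fromBlocks_inj.1 h1).1)

abbrev K2 := ZMod 2

def gC : GL (Fin 4) K2 := ⟨!![0, 0, 0, 1; 1, 0, 0, 1; 0, 1, 0, 0; 0, 0, 1, 0],
  !![1, 1, 0, 0; 0, 0, 1, 0; 0, 0, 0, 1; 1, 0, 0, 0], by decide +kernel, by decide +kernel⟩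

def gP : GL (Fin 4) K2 := ⟨!![1, 0, 1, 0; 0, 0, 1, 0; 0, 1, 0, 1; 0, 0, 0, 1],
  !![1, 1, 0, 0; 0, 0, 1, 1; 0, 1, 0, 0; 0, 0, 0, 1], by decide +kernel, by decide +kernel⟩

def gK : GL (Fin 4) K2 := ⟨!![0, 1, 0, 0; 1, 0, 0, 0; 0, 0, 1, 0; 0, 0, 0, 1],
  !![0, 1, 0, 0; 1, 0, 0, 0; 0, 0, 1, 0; 0, 0, 0, 1], by decide +kernel, by decide +kernel⟩

theorem comm_eq : gP * gC * gP⁻¹ * gC⁻¹ = gC := by
  rw [mul_inv_eq_iff_eq_mul, mul_inv_eq_iff_eq_mul]
  decide +kernel

theorem pow_three : ((gC ^ 3 : GL (Fin 4) K2) : Matrix (Fin 4) (Fin 4) K2) =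
    !![0, 1, 0, 0; 0, 1, 1, 0; 0, 0, 1, 1; 1, 0, 0, 1] := by
  rw [pow_succ, pow_two]; decide +kernel

theorem pow_five : ((gC ^ 5 : GL (Fin 4) K2) : Matrix (Fin 4) (Fin 4) K2) =
    !![0, 0, 1, 1; 1, 0, 1, 0; 1, 1, 0, 1; 0, 1, 1, 0] := by
  rw [show 5 = 3 + 2 from rfl, pow_add, Units.val_mul, pow_three, pow_two]; decide +kernel

theorem pow_ten : ((gC ^ 10 : GL (Fin 4) K2) : Matrix (Fin 4) (Fin 4) K2) =
    !![1, 0, 1, 1; 1, 1, 1, 0; 1, 1, 1, 1; 0, 1, 1, 1] := by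
  rw [show 10 = 5 + 5 from rfl, pow_add, Units.val_mul, pow_five]; decide +kernel

theorem pow_fifteen : gC ^ (3 * 5) = 1 := by
  apply Units.ext
  rw [show 3 * 5 = 10 + 5 from rfl, pow_add, Units.val_mul, pow_five, pow_ten]; decide +kernel

theorem ne_three : gC ^ 3 * (gK * gC * gK⁻¹) ≠ (gK * gC * gK⁻¹) * gC ^ 3 := by
  intro h
  have h1 := congrArg Units.val h
  rw [Units.val_mul, Units.val_mul _ (gC ^ 3), pow_three] at h1
  exact absurd h1 (by decide +kernel)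

theorem ne_five : gC ^ 5 * (gK * gC * gK⁻¹) ≠ (gK * gC * gK⁻¹) * gC ^ 5 := by
  intro h
  have h1 := congrArg Units.val h
  rw [Units.val_mul, Units.val_mul _ (gC ^ 5), pow_five] at h1
  exact absurd h1 (by decide +kernel)

theorem levi_mem : levi 4 K2 gC ∈ Omega K2 (quadFormPlus 4 K2) := by
  rw [← comm_eq, map_mul, map_mul, map_mul, map_inv, map_inv]
  exact Subgroup.commutator_mem_commutator (Subgroup.mem_top _) (Subgroup.mem_top _)

def oC : Omega K2 (quadFormPlus 4 K2) := ⟨levi 4 K2 gC, levi_mem⟩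

def oK : Omega K2 (quadFormPlus 4 K2) :=
  ⟨levi 4 K2 gK * levi 4 K2 gC * (levi 4 K2 gK)⁻¹, Subgroup.Normal.conj_mem inferInstance _ levi_mem _⟩

seal _root_.Finset.sum _root_.dotProduct in
theorem pomega_eight_two : ∃ g : POmega K2 (quadFormPlus 4 K2), orderOf g = 3 * 5 := by
  refine ⟨QuotientGroup.mk oC, orderOf_pq_mk (u := oK) (v := oK) (by norm_num) (by norm_num) ?_ ?_ ?_⟩
  · apply Subtype.ext
    rw [SubmonoidClass.coe_pow]
    exact (map_pow _ _ _).symm.trans ((congrArg (levi 4 K2) pow_fifteen).trans (map_one _))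
  · intro h
    have h1 := congrArg Subtype.val h
    simp only [Subgroup.coe_mul, SubmonoidClass.coe_pow, oC, oK] at h1
    rw [← map_pow, ← map_inv, ← map_mul, ← map_mul, ← map_mul, ← map_mul] at h1
    exact ne_three (levi_inj h1)
  · intro h
    have h1 := congrArg Subtype.val h
    simp only [Subgroup.coe_mul, SubmonoidClass.coe_pow, oC, oK] at h1
    rw [← map_pow, ← map_inv, ← map_mul, ← map_mul, ← map_mul, ← map_mul] at h1
    exact ne_five (levi_inj h1)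

end Cfsg.Agent.H422.Elim

private theorem dce_34f17c96d296 : _root_.True := by
  try have : _root_.True := by simp only [_root_.Cfsg.Agent.H422.Elim.oK.eq_1]
  try have : _root_.True := by simp only [_root_.Cfsg.Agent.H422.Elim.oC.eq_1]
  exact _root_.True.intro
end
end
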