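import Cfsg.Agent.ChevalleyStructure.NineField
import Cfsg.Agent.H155.Unit
import Cfsg.Agent.H422.Recur
import Cfsg.Agent.H422.Graph_m3
import Cfsg.Agent.H422.ModBase
import Cfsg.Agent.S0280
import Cfsg.Agent.S0283
import Cfsg.Agent.Lib.MatRng
import Cfsg.Agent.Lib.MatQ9a
import Cfsg.Agent.Prune
set_option linter.all false

-- part: H422/UFourElts
section
set_option linter.all false
open scoped Cfsg.Agent.FastGrp

/-!
# `PSU₄(3)`: orders of elements, `2⁴:5` and `3⁴:5`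
-/

set_option autoImplicit false

namespace Cfsg.Agent.H422.UFour

open Matrix Cfsg.Agent.ChevalleyStructure.NineField Cfsg.Agent.H422.Recur Cfsg.Agent.H422.Graph

abbrev M4 := Matrix (Fin 4) (Fin 4) F9
abbrev SU4 := Cfsg.SU 4 F9 3
abbrev U4 := Cfsg.PSU 4 F9 3

/-- conjugation -/
def cj : F9 →+* F9 where
  toFun x := ⟨x.re, -x.im⟩
  map_one' := by decide +kernel
  map_mul' := by decide +kernel
  map_zero' := by decide +kernel
  map_add' := by decide +kernel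

theorem cj_pow : ∀ x : F9, cj x = x ^ 3 := by decide +kernel

theorem mem_SU_iff (g : Matrix.SpecialLinearGroup (Fin 4) F9) :
    g ∈ Cfsg.SU 4 F9 3 ↔ (g : M4)ᵀ * (g : M4).map cj = 1 :=
  Cfsg.Agent.H155.Unit.mem_SU_iff_matrix cj cj_pow g

/-- elements of `SU₄(3)` from matrices -/
def mk (M : M4) (h : Mᵀ * M.map cj = 1) (hd : M.det = 1) : SU4 :=
  ⟨⟨M, hd⟩, (mem_SU_iff ⟨M, hd⟩).2 h⟩

def mat (g : SU4) : M4 := g.1.1

theorem mat_mk (M : M4) (h : Mᵀ * M.map cj = 1) (hd : M.det = 1) : mat (mk M h hd) = M := rfl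

theorem mat_mul (a b : SU4) : mat (a * b) = mat a * mat b := rfl

theorem mat_one : mat 1 = 1 := rfl

theorem mat_inj {a b : SU4} (h : mat a = mat b) : a = b := Subtype.ext (Subtype.ext h)

theorem mat_pow (a : SU4) (n : ℕ) : mat (a ^ n) = mat a ^ n := by
  induction n with
  | zero => rfl
  | succ n ih => rw [pow_succ, mat_mul, ih, pow_succ]

theorem mat_unit (g : SU4) : (mat g)ᵀ * (mat g).map cj = 1 := (mem_SU_iff g.1).1 g.2

theorem mat_det (g : SU4) : (mat g).det = 1 := g.1.2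

theorem mem_center {g : SU4} {r : F9} (h : mat g = r • (1 : M4)) : g ∈ Subgroup.center SU4 := by
  rw [Subgroup.mem_center_iff]
  intro y
  apply mat_inj
  rw [mat_mul, mat_mul, h, Matrix.mul_smul, Matrix.smul_mul, mul_one, one_mul]

/-! ### Orders of elements -/

theorem check : ∀ a b c : F9, cj b = b → cj a = c →
    ∃ k ∈ [4, 5, 6, 7, 8, 9, 12], (co4 (-a) (-b) (-c) (-1) k).1 = 0 ∧ (co4 (-a) (-b) (-c) (-1) k).2.1 = 0 ∧
      (co4 (-a) (-b) (-c) (-1) k).2.2.1 = 0 := by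
  decide +kernel

theorem su_pow (g : SU4) : ∃ k ∈ [4, 5, 6, 7, 8, 9, 12], ∃ r : F9, mat g ^ k = r • (1 : M4) := by
  set X := mat g with hX
  have h1 : X.map cj * Xᵀ = 1 := mul_eq_one_comm.1 (mat_unit g)
  have h2 := coeff_inv Xᵀ (X.map cj) h1 (by rw [det_transpose]; exact mat_det g)
  have h3 : (X.map cj).charpoly = X.charpoly.map cj := Matrix.charpoly_map X cj
  rw [h3, Matrix.charpoly_transpose] at h2
  have e2 := h2 2 (by norm_num)
  have e3 := h2 3 (by norm_num)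
  rw [Polynomial.coeff_map] at e2 e3
  have h4 := ch4 X
  rw [show X.det = 1 from mat_det g] at h4
  obtain ⟨k, hk, a1, a2, a3⟩ := check (X.charpoly.coeff 3) (X.charpoly.coeff 2) (X.charpoly.coeff 1) e2 e3
  generalize X.charpoly.coeff 3 = c3, X.charpoly.coeff 2 = c2, X.charpoly.coeff 1 = c1 at h4 a1 a2 a3
  have h5 := scalar_co4 h4 a1 a2 a3
  exact ⟨k, hk, h5⟩

theorem psu_pow (g : U4) : ∃ k, Ok k ∧ g ^ k = 1 := by
  obtain ⟨X, rfl⟩ := QuotientGroup.mk_surjective g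
  obtain ⟨k, hk, r, hr⟩ := su_pow X
  refine ⟨k, ?_, ?_⟩
  · simp only [List.mem_cons, List.not_mem_nil, or_false] at hk
    rcases hk with rfl | rfl | rfl | rfl | rfl | rfl | rfl <;> decide
  · rw [← QuotientGroup.mk_pow, QuotientGroup.eq_one_iff]
    exact mem_center (r := r) ((mat_pow X k).trans hr)

/-! ### Elements -/

def mx : M4 := !![⟨1, 2⟩, ⟨0, 0⟩, ⟨1, 2⟩, ⟨0, 0⟩; ⟨1, 2⟩, ⟨0, 0⟩, ⟨2, 1⟩, ⟨0, 0⟩; ⟨0, 0⟩, ⟨1, 1⟩, ⟨0, 0⟩, ⟨1, 1⟩; ⟨0, 0⟩, ⟨2, 2⟩, ⟨0, 0⟩, ⟨1, 1⟩]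
def mt : M4 := !![⟨1, 2⟩, ⟨1, 0⟩, ⟨0, 0⟩, ⟨0, 1⟩; ⟨1, 2⟩, ⟨2, 1⟩, ⟨1, 0⟩, ⟨1, 2⟩; ⟨2, 2⟩, ⟨2, 0⟩, ⟨2, 2⟩, ⟨1, 1⟩; ⟨0, 1⟩, ⟨0, 0⟩, ⟨1, 0⟩, ⟨1, 1⟩]
def mw : M4 := !![⟨2, 0⟩, ⟨0, 0⟩, ⟨0, 0⟩, ⟨0, 0⟩; ⟨0, 0⟩, ⟨2, 0⟩, ⟨0, 0⟩, ⟨0, 0⟩; ⟨0, 0⟩, ⟨0, 0⟩, ⟨1, 1⟩, ⟨1, 1⟩; ⟨0, 0⟩, ⟨0, 0⟩, ⟨2, 1⟩, ⟨1, 2⟩]
def mw2 : M4 := !![⟨1, 0⟩, ⟨0, 0⟩, ⟨0, 0⟩, ⟨0, 0⟩; ⟨0, 0⟩, ⟨1, 0⟩, ⟨0, 0⟩, ⟨0, 0⟩; ⟨0, 0⟩, ⟨0, 0⟩, ⟨1, 2⟩, ⟨2, 2⟩; ⟨0, 0⟩, ⟨0, 0⟩, ⟨1, 2⟩, ⟨1, 1⟩]
def mw3 : M4 := !![⟨2, 0⟩, ⟨0, 0⟩, ⟨0, 0⟩, ⟨0, 0⟩; ⟨0, 0⟩, ⟨2, 0⟩, ⟨0, 0⟩, ⟨0, 0⟩; ⟨0, 0⟩, ⟨0, 0⟩, ⟨1, 0⟩, ⟨0, 0⟩; ⟨0, 0⟩, ⟨0, 0⟩, ⟨0, 0⟩, ⟨1, 0⟩]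
def mx2 : M4 := !![⟨0, 1⟩, ⟨2, 0⟩, ⟨0, 1⟩, ⟨2, 0⟩; ⟨0, 1⟩, ⟨1, 0⟩, ⟨0, 1⟩, ⟨1, 0⟩; ⟨2, 0⟩, ⟨0, 1⟩, ⟨1, 0⟩, ⟨0, 2⟩; ⟨1, 0⟩, ⟨0, 1⟩, ⟨2, 0⟩, ⟨0, 2⟩]
def mx4 : M4 := !![⟨1, 1⟩, ⟨1, 1⟩, ⟨0, 0⟩, ⟨0, 0⟩; ⟨0, 0⟩, ⟨0, 0⟩, ⟨1, 2⟩, ⟨2, 1⟩; ⟨1, 1⟩, ⟨2, 2⟩, ⟨0, 0⟩, ⟨0, 0⟩; ⟨0, 0⟩, ⟨0, 0⟩, ⟨1, 2⟩, ⟨1, 2⟩]

def gx : SU4 := mk mx (by (set_option synthInstance.maxSize 20000 in open scoped Cfsg.Agent.Lib.MatDec Cfsg.Agent.Lib.MatRng in decide +kernel)) (by (set_option synthInstance.maxSize 20000 in open scoped Cfsg.Agent.Lib.MatDec Cfsg.Agent.Lib.MatRng in decide +kernel))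
def gt : SU4 := mk mt (by (set_option synthInstance.maxSize 20000 in open scoped Cfsg.Agent.Lib.MatDec Cfsg.Agent.Lib.MatRng in decide +kernel)) (by (set_option synthInstance.maxSize 20000 in open scoped Cfsg.Agent.Lib.MatDec Cfsg.Agent.Lib.MatRng in decide +kernel))
def gw : SU4 := mk mw (by (set_option synthInstance.maxSize 20000 in open scoped Cfsg.Agent.Lib.MatDec Cfsg.Agent.Lib.MatRng in decide +kernel)) (by (set_option synthInstance.maxSize 20000 in open scoped Cfsg.Agent.Lib.MatDec Cfsg.Agent.Lib.MatRng in decide +kernel))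

theorem gx_two : mat (gx ^ 2) = mx2 := by
  rw [pow_two, mat_mul]; (set_option synthInstance.maxSize 20000 in open scoped Cfsg.Agent.Lib.MatDec Cfsg.Agent.Lib.MatRng in decide +kernel)
theorem mat_pow_add (g : SU4) (m n : ℕ) : mat (g ^ (m + n)) = mat (g ^ m) * mat (g ^ n) := by
  rw [pow_add, mat_mul]
theorem gx_four : mat (gx ^ 4) = mx4 := by
  refine (mat_pow_add gx 2 2).trans ?_
  rw [gx_two]; (set_option synthInstance.maxSize 20000 in open scoped Cfsg.Agent.Lib.MatDec Cfsg.Agent.Lib.MatRng in decide +kernel)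
theorem gx_five : gx ^ 5 = 1 := by
  apply mat_inj
  rw [pow_succ, mat_mul, gx_four]; (set_option synthInstance.maxSize 20000 in open scoped Cfsg.Agent.Lib.MatDec Cfsg.Agent.Lib.MatRng in decide +kernel)

theorem gt_conj : gt * gx = gx ^ 2 * gt := by
  apply mat_inj
  rw [mat_mul, mat_mul, gx_two]; (delta Cfsg.Agent.H422.UFour.mat Cfsg.Agent.H422.UFour.gt Cfsg.Agent.H422.UFour.gx Cfsg.Agent.H422.UFour.mk; set_option synthInstance.maxSize 20000 in open scoped Cfsg.Agent.Lib.MatDec Cfsg.Agent.Lib.MatRng in decide +kernel)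

theorem gw_two : mat (gw ^ 2) = mw2 := by
  rw [pow_two, mat_mul]; (set_option synthInstance.maxSize 20000 in open scoped Cfsg.Agent.Lib.MatDec Cfsg.Agent.Lib.MatRng in decide +kernel)
theorem gw_three : mat (gw ^ 3) = mw3 := by
  rw [pow_succ, mat_mul, gw_two]; (delta Cfsg.Agent.H422.UFour.mat Cfsg.Agent.H422.UFour.gw Cfsg.Agent.H422.UFour.mk; set_option synthInstance.maxSize 20000 in open scoped Cfsg.Agent.Lib.MatDec Cfsg.Agent.Lib.MatRng in decide +kernel)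
theorem gw_six : gw ^ (2 * 3) = 1 := by
  apply mat_inj
  refine (mat_pow_add gw 3 3).trans ?_
  rw [gw_three]; (set_option synthInstance.maxSize 20000 in open scoped Cfsg.Agent.Lib.MatDec Cfsg.Agent.Lib.MatRng in decide +kernel)


/-! ### The subgroup `2⁴` of `PSU₄(3)` -/

abbrev A2 := ZMod 2 × ZMod 2 × ZMod 2 × ZMod 2

/-- Pauli matrices -/
def P (v : A2) : M4 := Matrix.of fun r s =>
  if r.val / 2 = (s.val / 2 + v.1.val) % 2 ∧ r.val % 2 = (s.val % 2 + v.2.2.1.val) % 2 then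
    (if (v.2.1.val * (s.val / 2) + v.2.2.2.val * (s.val % 2)) % 2 = 0 then 1 else -1) else 0

theorem P_unit : ∀ v : A2, (P v)ᵀ * (P v).map cj = 1 := by (delta Cfsg.Agent.H422.UFour.P; set_option synthInstance.maxSize 20000 in open scoped Cfsg.Agent.Lib.MatDec Cfsg.Agent.Lib.MatRng in (simp only [Cfsg.Agent.Lib.MatDec.sw_dec, Cfsg.Agent.Lib.MatDec.sw_ite, Cfsg.Agent.Lib.MatDec.sw_beq, Cfsg.Agent.Lib.MatDec.sw_bne]; decide +kernel))
theorem P_det : ∀ v : A2, (P v).det = 1 := by decide +kernel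
theorem P_mul : ∀ v w : A2, P v * P w = P (v + w) ∨ P v * P w = - P (v + w) := by (set_option synthInstance.maxSize 20000 in open scoped Cfsg.Agent.Lib.MatDec Cfsg.Agent.Lib.MatRng in decide +kernel)

/-- the action of `x` -/
def act2 (v : A2) : A2 :=
  (v.2.2.1,
   v.2.1 + v.2.2.1 + v.2.2.2,
   v.2.1,
   v.1 + v.2.2.1)

theorem act2_fix : ∀ v : A2, act2 v = v → v = 0 := by decide +kernel
theorem act2_conj : ∀ v : A2, ∃ r : F9, mx * P v = r • (P (act2 v) * mx) := by (set_option synthInstance.maxSize 20000 in open scoped Cfsg.Agent.Lib.MatDec Cfsg.Agent.Lib.MatRng in decide +kernel)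


/-! ### The subgroup `3⁴` of `SU₄(3)` -/

abbrev A3 := ZMod 3 × ZMod 3 × ZMod 3 × ZMod 3

def cst (r : ZMod 3) : F9 := ⟨r, 0⟩

theorem cst_add : ∀ r s : ZMod 3, cst (r + s) = cst r + cst s := by decide +kernel

def B1 : M4 := !![⟨0, 1⟩, ⟨0, 1⟩, ⟨1, 0⟩, ⟨0, 0⟩; ⟨0, 1⟩, ⟨0, 1⟩, ⟨1, 0⟩, ⟨0, 0⟩; ⟨2, 0⟩, ⟨2, 0⟩, ⟨0, 1⟩, ⟨0, 0⟩; ⟨0, 0⟩, ⟨0, 0⟩, ⟨0, 0⟩, ⟨0, 0⟩]
def B2 : M4 := !![⟨0, 1⟩, ⟨0, 2⟩, ⟨0, 0⟩, ⟨0, 2⟩; ⟨0, 2⟩, ⟨0, 1⟩, ⟨0, 0⟩, ⟨0, 1⟩; ⟨0, 0⟩, ⟨0, 0⟩, ⟨0, 0⟩, ⟨0, 0⟩; ⟨0, 2⟩, ⟨0, 1⟩, ⟨0, 0⟩, ⟨0, 1⟩]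
def B3 : M4 := !![⟨0, 2⟩, ⟨0, 0⟩, ⟨1, 0⟩, ⟨0, 2⟩; ⟨0, 0⟩, ⟨0, 1⟩, ⟨2, 0⟩, ⟨0, 2⟩; ⟨2, 0⟩, ⟨1, 0⟩, ⟨0, 0⟩, ⟨1, 0⟩; ⟨0, 2⟩, ⟨0, 2⟩, ⟨2, 0⟩, ⟨0, 0⟩]
def B4 : M4 := !![⟨0, 0⟩, ⟨2, 0⟩, ⟨0, 2⟩, ⟨1, 0⟩; ⟨1, 0⟩, ⟨0, 0⟩, ⟨0, 1⟩, ⟨1, 0⟩; ⟨0, 2⟩, ⟨0, 1⟩, ⟨0, 0⟩, ⟨0, 1⟩; ⟨2, 0⟩, ⟨2, 0⟩, ⟨0, 1⟩, ⟨0, 0⟩]

def S (v : A3) : M4 := cst v.1 • B1 + cst v.2.1 • B2 + cst v.2.2.1 • B3 + cst v.2.2.2 • B4

theorem S_add (v w : A3) : S (v + w) = S v + S w := by
  rw [S, S, S]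
  simp only [Prod.fst_add, Prod.snd_add, cst_add, add_smul]
  abel

theorem B11 : B1 * B1 = 0 := by decide +kernel
theorem B12 : B1 * B2 = 0 := by (set_option synthInstance.maxSize 20000 in open scoped Cfsg.Agent.Lib.MatDec Cfsg.Agent.Lib.MatRng in decide +kernel)
theorem B13 : B1 * B3 = 0 := by (set_option synthInstance.maxSize 20000 in open scoped Cfsg.Agent.Lib.MatDec Cfsg.Agent.Lib.MatRng in decide +kernel)
theorem B14 : B1 * B4 = 0 := by (set_option synthInstance.maxSize 20000 in open scoped Cfsg.Agent.Lib.MatDec Cfsg.Agent.Lib.MatRng in decide +kernel)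
theorem B21 : B2 * B1 = 0 := by (set_option synthInstance.maxSize 20000 in open scoped Cfsg.Agent.Lib.MatDec Cfsg.Agent.Lib.MatRng in decide +kernel)
theorem B22 : B2 * B2 = 0 := by (set_option synthInstance.maxSize 20000 in open scoped Cfsg.Agent.Lib.MatDec Cfsg.Agent.Lib.MatRng in decide +kernel)
theorem B23 : B2 * B3 = 0 := by (set_option synthInstance.maxSize 20000 in open scoped Cfsg.Agent.Lib.MatDec Cfsg.Agent.Lib.MatRng in decide +kernel)
theorem B24 : B2 * B4 = 0 := by decide +kernel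
theorem B31 : B3 * B1 = 0 := by decide +kernel
theorem B32 : B3 * B2 = 0 := by decide +kernel
theorem B33 : B3 * B3 = 0 := by decide +kernel
theorem B34 : B3 * B4 = 0 := by decide +kernel
theorem B41 : B4 * B1 = 0 := by (set_option synthInstance.maxSize 20000 in open scoped Cfsg.Agent.Lib.MatDec Cfsg.Agent.Lib.MatRng in decide +kernel)
theorem B42 : B4 * B2 = 0 := by (set_option synthInstance.maxSize 20000 in open scoped Cfsg.Agent.Lib.MatDec Cfsg.Agent.Lib.MatRng in decide +kernel)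
theorem B43 : B4 * B3 = 0 := by (set_option synthInstance.maxSize 20000 in open scoped Cfsg.Agent.Lib.MatDec Cfsg.Agent.Lib.MatRng in decide +kernel)
theorem B44 : B4 * B4 = 0 := by decide +kernel

theorem S_mul (v w : A3) : S v * S w = 0 := by
  rw [S, S]
  simp only [add_mul, mul_add, smul_mul_smul_comm, B11, B12, B13, B14, B21, B22, B23, B24, B31, B32, B33,
    B34, B41, B42, B43, B44, smul_zero, add_zero]

theorem S_unit : ∀ v : A3, (1 + S v)ᵀ * (1 + S v).map cj = 1 := fun v => by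
  have h : (S v)ᵀ = -(S v).map cj := by
    have hc : ∀ r, cj (cst r) = cst r := by decide +kernel
    have h1 : B1ᵀ = -B1.map cj ∧ B2ᵀ = -B2.map cj ∧ B3ᵀ = -B3.map cj ∧ B4ᵀ = -B4.map cj := by decide +kernel
    simp only [S, transpose_add, transpose_smul, h1, Matrix.map_add _ (map_add cj), Matrix.map_smul' _ _ _ (map_mul cj), hc,
      smul_neg, neg_add]
  have h2 : (S v).map cj * (S v).map cj = 0 := by rw [← Matrix.map_mul, S_mul, Matrix.map_zero _ (map_zero cj)]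
  rw [transpose_add, transpose_one, Matrix.map_add _ (map_add cj), Matrix.map_one _ (map_zero cj) (map_one cj), h, add_mul, one_mul,
    mul_add, mul_one, neg_mul, h2, neg_zero, add_zero, add_neg_cancel_right]
theorem S_det : ∀ v : A3, (1 + S v).det = 1 := fun v =>
  (by decide +kernel : ∀ x : F9, x ^ 3 = 1 → x = 1) _ (by
    have h3 : S v + S v + S v = 0 := Matrix.ext fun i j => (by decide +kernel : ∀ x : F9, x + x + x = 0) _
    have h : ∀ s : M4, (1 + s) ^ 3 = 1 + (s + s + s) + s * s * (1 + 1 + 1 + s) := fun s => by noncomm_ring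
    rw [← det_pow, h, h3, S_mul, zero_mul, add_zero, add_zero, det_one])
/-- the action of `x` -/
def act3 (v : A3) : A3 :=
  (2 * v.1 + 2 * v.2.1 + 1 * v.2.2.1,
   2 * v.1,
   1 * v.2.2.2,
   1 * v.1 + 1 * v.2.2.1)

theorem act3_fix : ∀ v : A3, act3 v = v → v = 0 := by decide +kernel
theorem act3_conj : ∀ v : A3, mx * S v = S (act3 v) * mx := by (delta Cfsg.Agent.H422.UFour.S Cfsg.Agent.H422.UFour.act3 Cfsg.Agent.H422.UFour.cst; set_option synthInstance.maxSize 20000 in open scoped Cfsg.Agent.Lib.MatDec Cfsg.Agent.Lib.MatRng in decide +kernel)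

end Cfsg.Agent.H422.UFour

private theorem dce_90d51f1cc9e9 : _root_.True := by
  try have : _root_.True := by simp only [_root_.Cfsg.Agent.H422.UFour.S.eq_1]
  exact _root_.True.intro
end

-- part: H422/UFour
section
set_option linter.all false
open scoped Cfsg.Agent.FastGrp

/-!
# `PSU₄(3)`: prime graph, no modules with `5`-elements without fixed points
-/

set_option autoImplicit false

namespace Cfsg.Agent.H422.UFour

open Matrix Cfsg.Agent.ChevalleyStructure.NineField Cfsg.Agent.H422.Graph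

theorem card_U : Nat.card U4 = 3265920 := by
  have h1 := Cfsg.Agent.S0280.result (F := F9) (q := 3) (by rw [F9.card_F9]; norm_num) 4 (by norm_num)
  have h2 : Nat.gcd 4 (3 + 1) = 4 := by decide
  rw [h2] at h1
  simp only [Finset.prod_range_succ, Finset.prod_range_zero] at h1
  have e0 : Even 0 := by decide
  have e1 : ¬ Even 1 := by decide
  have e2 : Even 2 := by decide
  have e3 : ¬ Even 3 := by decide
  rw [if_pos e0, if_neg e1, if_pos e2, if_neg e3] at h1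
  change Nat.card (Cfsg.PSU 4 F9 3) = 3265920
  generalize Nat.card (Cfsg.PSU 4 F9 3) = n at h1 ⊢
  norm_num at h1
  omega

instance simple_U : IsSimpleGroup U4 :=
  Cfsg.Agent.S0283.result (F := F9) (q := 3) (by rw [F9.card_F9]; norm_num) 4 (by norm_num) (by norm_num)

instance finite_U : Finite U4 := Nat.finite_of_card_ne_zero (by rw [card_U]; norm_num)

abbrev pr : SU4 →* U4 := QuotientGroup.mk' (Subgroup.center SU4)

theorem pr_eq_one {g : SU4} (h : pr g = 1) : g ∈ Subgroup.center SU4 := (QuotientGroup.eq_one_iff g).1 h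

/-- a noncentral element -/
theorem not_central {g y : SU4} (h : mat g * mat y ≠ mat y * mat g) : pr g ≠ 1 := by
  intro h1
  have h2 := Subgroup.mem_center_iff.1 (pr_eq_one h1) y
  apply h
  rw [← mat_mul, ← mat_mul, h2]

theorem order_x : orderOf (pr gx) = 5 := by
  have : Fact (Nat.Prime 5) := ⟨by norm_num⟩
  refine orderOf_eq_prime ?_ (not_central (y := gt) (by decide +kernel))
  rw [← map_pow, gx_five, map_one]

theorem order_w : orderOf (pr gw) = 2 * 3 := by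
  refine Cfsg.Agent.H422.Elim.orderOf_pq (by norm_num) (by norm_num) ?_ ?_ ?_
  · rw [← map_pow, gw_six, map_one]
  · rw [← map_pow]
    refine not_central (y := gt) ?_
    rw [gw_two]; decide +kernel
  · rw [← map_pow]
    refine not_central (y := gt) ?_
    rw [gw_three]; decide +kernel

/-- **The prime graph of `PSU₄(3)`.** -/
theorem good_U : Good U4 := by
  refine good_of_pow ?_ ⟨_, order_w⟩ psu_pow
  rw [card_U]
  decide +kernel

theorem pr_eq_of_smul {a b : SU4} {r : F9} (h : mat a = r • mat b) : pr a = pr b := by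
  refine ((QuotientGroup.eq).2 (mem_center (r := r) ?_)).symm
  rw [mat_mul, h, Matrix.mul_smul, ← mat_mul, inv_mul_cancel, mat_one]

/-! ### characteristic three -/

/-- the homomorphism from `2⁴` -/
def f2 : Multiplicative A2 →* U4 where
  toFun v := pr (mk (P v.toAdd) (P_unit _) (P_det _))
  map_one' := by
    refine (QuotientGroup.eq_one_iff _).2 (mem_center (r := 1) ?_)
    rw [mat_mk]; decide +kernel
  map_mul' v w := by
    rw [← map_mul]
    have key : ∀ a b c : SU4, (mat a * mat b = mat c ∨ mat a * mat b = -mat c) → pr c = pr (a * b) := by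
      intro a b c h
      rcases h with h | h
      · exact (pr_eq_of_smul (r := 1) (by rw [mat_mul, h, one_smul])).symm
      · exact (pr_eq_of_smul (r := -1) (by rw [mat_mul, h, neg_smul, one_smul])).symm
    exact key _ _ _ (P_mul v.toAdd w.toAdd)

theorem f2_inj {v : Multiplicative A2} (h : f2 v = 1) : v = 1 := by
  have h1 := pr_eq_one h
  -- central elements are scalar: they commute with all `P w` and with `x`
  have h2 : ∀ w : A2, P v.toAdd * P w = P w * P v.toAdd := by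
    intro w
    have := Subgroup.mem_center_iff.1 h1 (mk (P w) (P_unit _) (P_det _))
    exact (congrArg mat this).symm
  have h3 : ∀ a : A2, (∀ w : A2, P a * P w = P w * P a) → a = 0 := by decide +kernel
  exact congrArg Multiplicative.ofAdd (h3 v.toAdd h2)

theorem f2_conj (v : Multiplicative A2) :
    pr gx * f2 v * (pr gx)⁻¹ = f2 (Multiplicative.ofAdd (act2 v.toAdd)) := by
  rw [mul_inv_eq_iff_eq_mul]
  have key : ∀ a b : SU4, ∀ r : F9, mat gx * mat a = r • (mat b * mat gx) → pr gx * pr a = pr b * pr gx := by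
    intro a b r h
    rw [← map_mul, ← map_mul]
    exact pr_eq_of_smul (r := r) (by rw [mat_mul, mat_mul, h])
  obtain ⟨r, hr⟩ := act2_conj v.toAdd
  exact key _ _ r hr

/-! ### characteristic two -/

/-- the homomorphism from `3⁴` -/
def f3 : Multiplicative A3 →* U4 where
  toFun v := pr (mk (1 + S v.toAdd) (S_unit _) (S_det _))
  map_one' := by
    refine (QuotientGroup.eq_one_iff _).2 (mem_center (r := 1) ?_)
    rw [mat_mk]; decide +kernel
  map_mul' v w := by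
    rw [← map_mul]
    have key : ∀ a b c : SU4, mat a * mat b = mat c → pr c = pr (a * b) := by
      intro a b c h
      exact (pr_eq_of_smul (r := 1) (by rw [mat_mul, h, one_smul])).symm
    refine key _ _ _ ?_
    change (1 + S v.toAdd) * (1 + S w.toAdd) = 1 + S (v.toAdd + w.toAdd)
    rw [add_mul, mul_add (S v.toAdd), S_mul, S_add, mul_one, one_mul, add_zero]
    abel

theorem f3_inj {v : Multiplicative A3} (h : f3 v = 1) : v = 1 := by
  have h1 := pr_eq_one h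
  have h2 : mx * (1 + S v.toAdd) = (1 + S v.toAdd) * mx := by
    have := Subgroup.mem_center_iff.1 h1 gx
    exact congrArg mat this
  have h3 : ∀ a : A3, mx * (1 + S a) = (1 + S a) * mx → a = 0 := by decide +kernel
  exact congrArg Multiplicative.ofAdd (h3 v.toAdd h2)

theorem f3_conj (v : Multiplicative A3) :
    pr gx * f3 v * (pr gx)⁻¹ = f3 (Multiplicative.ofAdd (act3 v.toAdd)) := by
  rw [mul_inv_eq_iff_eq_mul]
  have key : ∀ a b : SU4, mat gx * mat a = mat b * mat gx → pr gx * pr a = pr b * pr gx := by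
    intro a b h
    rw [← map_mul, ← map_mul]
    exact pr_eq_of_smul (r := 1) (by rw [mat_mul, mat_mul, h, one_smul])
  refine key _ _ ?_
  change mx * (1 + S v.toAdd) = (1 + S (act3 v.toAdd)) * mx
  rw [mul_add, add_mul, act3_conj, mul_one, one_mul]

section
variable {V : Type*} [AddCommGroup V] [DistribMulAction U4 V]

/-- if a nontrivial element acts trivially then `V = 0` -/
theorem eq_zero_of_trivial (h5 : Fpf U4 V 5) {n : U4} (hn : n ≠ 1) (h : ∀ v : V, n • v = v) (v : V) :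
    v = 0 := by
  let K : Subgroup U4 := (DistribMulAction.toAddMonoidEnd U4 V).ker
  have h1 : n ∈ K := by
    rw [MonoidHom.mem_ker]
    apply AddMonoidHom.ext
    intro w
    exact h w
  rcases simple_U.eq_bot_or_eq_top_of_normal K inferInstance with h2 | h2
  · rw [h2] at h1
    exact absurd (Subgroup.mem_bot.1 h1) hn
  · apply h5 _ order_x v
    have : pr gx ∈ K := by rw [h2]; exact Subgroup.mem_top _
    exact DFunLike.congr_fun (MonoidHom.mem_ker.1 this) v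

theorem eq_zero_three (h5 : Fpf U4 V 5) (hp : ∀ v : V, 2 • v = 0 → v = 0) (v : V) : v = 0 := by
  let N : Subgroup U4 := f2.range
  have hfin : Finite N := inferInstance
  have hcard : Nat.card N ∣ 16 := by
    have h1 := Subgroup.card_range_dvd f2
    have h2 : Nat.card (Multiplicative A2) = 16 := by
      rw [Nat.card_eq_fintype_card]; decide +kernel
    rwa [h2] at h1
  have key : ∀ m ∈ N, ∀ v : V, m • v = v := by
    intro m hm v
    refine smul_eq_of_frob (r := 5) (by norm_num) order_x (fun v => h5.sum_eq_zero order_x v) N ?_ ?_ ?_ hm v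
    · rintro _ ⟨a, rfl⟩
      exact ⟨_, (f2_conj a).symm⟩
    · rintro _ ⟨a, rfl⟩ h
      rw [f2_conj] at h
      have h1 : f2 ((Multiplicative.ofAdd (act2 a.toAdd)) * a⁻¹) = 1 := by
        rw [map_mul, h, map_inv, mul_inv_cancel]
      have h2 := mul_inv_eq_one.1 (f2_inj h1)
      have h3 : a = 1 := congrArg Multiplicative.ofAdd (act2_fix a.toAdd h2)
      rw [h3, map_one]
    · intro w hw
      have h16 : 16 • w = 0 := by
        obtain ⟨c, hc⟩ := hcard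
        rw [hc, mul_comm, mul_smul, hw, smul_zero]
      have e : ∀ u : V, 2 • u = 0 → u = 0 := hp
      apply e; apply e; apply e; apply e
      rw [← mul_smul, ← mul_smul, ← mul_smul]
      exact h16
  refine eq_zero_of_trivial h5 (n := f2 (Multiplicative.ofAdd (1, 0, 0, 0))) ?_ (key _ ⟨_, rfl⟩) v
  intro h
  have := congrArg Multiplicative.toAdd (f2_inj h)
  exact absurd this (by decide)

theorem eq_zero_two (h5 : Fpf U4 V 5) (hp : ∀ v : V, 3 • v = 0 → v = 0) (v : V) : v = 0 := by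
  let N : Subgroup U4 := f3.range
  have hfin : Finite N := inferInstance
  have hcard : Nat.card N ∣ 81 := by
    have h1 := Subgroup.card_range_dvd f3
    have h2 : Nat.card (Multiplicative A3) = 81 := by
      rw [Nat.card_eq_fintype_card]; decide +kernel
    rwa [h2] at h1
  have key : ∀ m ∈ N, ∀ v : V, m • v = v := by
    intro m hm v
    refine smul_eq_of_frob (r := 5) (by norm_num) order_x (fun v => h5.sum_eq_zero order_x v) N ?_ ?_ ?_ hm v
    · rintro _ ⟨a, rfl⟩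
      exact ⟨_, (f3_conj a).symm⟩
    · rintro _ ⟨a, rfl⟩ h
      rw [f3_conj] at h
      have h1 : f3 ((Multiplicative.ofAdd (act3 a.toAdd)) * a⁻¹) = 1 := by
        rw [map_mul, h, map_inv, mul_inv_cancel]
      have h2 := mul_inv_eq_one.1 (f3_inj h1)
      have h3 : a = 1 := congrArg Multiplicative.ofAdd (act3_fix a.toAdd h2)
      rw [h3, map_one]
    · intro w hw
      have h81 : 81 • w = 0 := by
        obtain ⟨c, hc⟩ := hcard
        rw [hc, mul_comm, mul_smul, hw, smul_zero]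
      have e : ∀ u : V, 3 • u = 0 → u = 0 := hp
      apply e; apply e; apply e; apply e
      rw [← mul_smul, ← mul_smul, ← mul_smul]
      exact h81
  refine eq_zero_of_trivial h5 (n := f3 (Multiplicative.ofAdd (1, 0, 0, 0))) ?_ (key _ ⟨_, rfl⟩) v
  intro h
  have := congrArg Multiplicative.toAdd (f3_inj h)
  exact absurd this (by decide)

end

end Cfsg.Agent.H422.UFour
end
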