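import Cfsg.Agent.ClassicalGeometry.AutPSL.Main
import Cfsg.Agent.FastGrp
import Cfsg.Agent.Prune
set_option linter.all false
prune_inst 0x7f00000000000000000000000000000000000000000000000000000000000000000000000000000000000000000000000000000000000000000000000000000000000000000000000000000000000000003fffffffffffffffffffffffffffbeffbdffffffff
open scoped Cfsg.Agent.FastGrp

/-!
# Computing in `Aut(PSL_n(F))`

`conj_pr`, `mem_inn`, `fld_cj`, `itr_cj`, `itr_fld`; the subgroup `twoExt N t = N ∪ N t`.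
-/

set_option autoImplicit false

namespace Cfsg.Agent.H422.AutBase

open Matrix
open Cfsg.Agent.ClassicalGeometry.AutPSL.Root
open Cfsg.Agent.ClassicalGeometry.AutPSL.Auto
open Cfsg.Agent.ClassicalGeometry.AutPSL.Main

section inn

variable (T : Type*) [Group T]

/-- inner automorphisms -/
def Inn : Subgroup (MulAut T) := (MulAut.conj (G := T)).range

variable {T}

theorem conj_mem (t : T) : MulAut.conj t ∈ Inn T := ⟨t, rfl⟩

theorem mul_conj (α : MulAut T) (t : T) : α * MulAut.conj t = MulAut.conj (α t) * α := by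
  apply MulEquiv.ext
  intro x
  simp [MulAut.mul_apply, MulAut.conj_apply]

instance inn_normal : (Inn T).Normal := by
  refine ⟨?_⟩
  rintro _ ⟨t, rfl⟩ α
  refine ⟨α t, ?_⟩
  rw [mul_conj, mul_inv_cancel_right]

theorem conj_injective (h : Subgroup.center T = ⊥) : Function.Injective (MulAut.conj (G := T)) := by
  rw [injective_iff_map_eq_one]
  intro t ht
  have : t ∈ Subgroup.center T := by
    rw [Subgroup.mem_center_iff]
    intro x
    have h1 := congrArg (fun β : MulAut T => β x) ht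
    simp only [MulAut.conj_apply, MulAut.one_apply] at h1
    rw [mul_inv_eq_iff_eq_mul] at h1
    exact h1.symm
  rw [h] at this
  exact Subgroup.mem_bot.1 this

end inn

section ext

variable {G : Type*} [Group G]

/-- `N ∪ N t` -/
def twoExt (N : Subgroup G) [N.Normal] (t : G) (ht : t * t ∈ N) : Subgroup G where
  carrier := {x | x ∈ N ∨ x * t ∈ N}
  one_mem' := Or.inl N.one_mem
  mul_mem' := by
    have hn : ∀ {n : G}, n ∈ N → ∀ g : G, g * n * g⁻¹ ∈ N := fun h g => Subgroup.Normal.conj_mem inferInstance _ h g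
    rintro x y (hx | hx) (hy | hy)
    · exact Or.inl (N.mul_mem hx hy)
    · right
      rw [mul_assoc]
      exact N.mul_mem hx hy
    · right
      have h1 : x * y * t = (x * y * x⁻¹) * (x * t) := by group
      rw [h1]
      exact N.mul_mem (hn hy x) hx
    · left
      have h1 : x * y = (x * t) * (t * t)⁻¹ * (t * (y * t) * t⁻¹) := by group
      rw [h1]
      exact N.mul_mem (N.mul_mem hx (N.inv_mem ht)) (hn hy t)
  inv_mem' := by
    have hn : ∀ {n : G}, n ∈ N → ∀ g : G, g * n * g⁻¹ ∈ N := fun h g => Subgroup.Normal.conj_mem inferInstance _ h g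
    rintro x (hx | hx)
    · exact Or.inl (N.inv_mem hx)
    · right
      have h1 : x⁻¹ * t = (x⁻¹ * ((t * t) * (x * t)⁻¹) * (x⁻¹)⁻¹) := by group
      rw [h1]
      exact hn (N.mul_mem ht (N.inv_mem hx)) _

variable {N : Subgroup G} [N.Normal] {t : G} {ht : t * t ∈ N}

theorem le_twoExt : N ≤ twoExt N t ht := fun _ hx => Or.inl hx

theorem self_mem_twoExt : t ∈ twoExt N t ht := Or.inr ht

/-- the members outside `N` -/
theorem exists_mul_of_mem {x : G} (hx : x ∈ twoExt N t ht) (hxN : x ∉ N) : ∃ n ∈ N, x = n * t := by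
  rcases hx with h | h
  · exact absurd h hxN
  · refine ⟨x * t⁻¹, ?_, by group⟩
    have h1 : x * t⁻¹ = (x * t) * (t * t)⁻¹ := by group
    rw [h1]
    exact N.mul_mem h (N.inv_mem ht)

theorem mul_self_mem {x : G} (hx : x ∈ twoExt N t ht) : x * x ∈ N := by
  have hn : ∀ {n : G}, n ∈ N → ∀ g : G, g * n * g⁻¹ ∈ N := fun h g => Subgroup.Normal.conj_mem inferInstance _ h g
  rcases hx with h | h
  · exact N.mul_mem h h
  · have h1 : x * x = (x * t) * (t * t)⁻¹ * (t * (x * t) * t⁻¹) := by group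
    rw [h1]
    exact N.mul_mem (N.mul_mem h (N.inv_mem ht)) (hn h t)

theorem card_twoExt [Finite G] (htN : t ∉ N) : Nat.card (twoExt N t ht) = 2 * Nat.card N := by
  have h1 : (N.subgroupOf (twoExt N t ht)).index = 2 := by
    rw [Subgroup.index_eq_two_iff]
    refine ⟨⟨t, self_mem_twoExt⟩, ?_⟩
    rintro ⟨b, hb⟩
    simp only [Subgroup.mem_subgroupOf, Subgroup.coe_mul]
    by_cases hbN : b ∈ N
    · right
      refine ⟨hbN, fun h => htN ?_⟩
      exact (N.mul_mem_cancel_left hbN).1 h
    · left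
      rcases hb with h | h
      · exact absurd h hbN
      · exact ⟨h, hbN⟩
  have h2 := Subgroup.card_mul_index (N.subgroupOf (twoExt N t ht))
  rw [h1] at h2
  have h3 : Nat.card (N.subgroupOf (twoExt N t ht)) = Nat.card N :=
    Nat.card_congr (Subgroup.subgroupOfEquivOfLe (le_twoExt (ht := ht))).toEquiv
  rw [h3] at h2
  omega

end ext

section aut

variable {ι F : Type*} [Fintype ι] [DecidableEq ι] [Field F]

theorem conj_pr (s : Matrix.SpecialLinearGroup ι F) :
    MulAut.conj (pr s) = lift (cj (Matrix.SpecialLinearGroup.toGL s)) := by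
  apply MulEquiv.ext
  intro x
  obtain ⟨x, rfl⟩ := pr_surjective x
  rw [lift_pr, MulAut.conj_apply, ← map_inv, ← map_mul, ← map_mul]
  congr 1

theorem lift_cj_scalar {C : GL ι F} {r : F} (hC : scalar ι r = (C : Matrix ι ι F)) :
    lift (cj C) = 1 := by
  rw [cj_eq_one_of_scalar hC, map_one]

/-- `lift (cj A)` is inner if the determinant of `A` is an `n`-th power. -/
theorem mem_inn {A : GL ι F} {r : F} (hr0 : r ≠ 0)
    (hr : r ^ Fintype.card ι = (A : Matrix ι ι F).det) :
    lift (cj A) ∈ Inn (Matrix.ProjectiveSpecialLinearGroup ι F) := by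
  let s : Matrix.SpecialLinearGroup ι F := ⟨r⁻¹ • (A : Matrix ι ι F), by
    rw [det_smul, ← hr, ← mul_pow, inv_mul_cancel₀ hr0, one_pow]⟩
  let C : GL ι F := ⟨r • 1, r⁻¹ • 1, by
    rw [smul_mul_smul_comm, mul_inv_cancel₀ hr0, one_mul, one_smul], by
    rw [smul_mul_smul_comm, inv_mul_cancel₀ hr0, one_mul, one_smul]⟩
  have hA : A = C * Matrix.SpecialLinearGroup.toGL s := by
    apply Units.ext
    rw [Units.val_mul]
    change (A : Matrix ι ι F) = (r • 1) * (r⁻¹ • (A : Matrix ι ι F))
    rw [smul_mul_smul_comm, mul_inv_cancel₀ hr0, one_mul, one_smul]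
  rw [hA, map_mul cj, map_mul lift, lift_cj_scalar (C := C) (r := r)
    (by rw [scalar_apply, ← smul_one_eq_diagonal]), one_mul, ← conj_pr]
  exact conj_mem _

theorem det_of_mem_inn [Nontrivial ι] {A : GL ι F}
    (h : lift (cj A) ∈ Inn (Matrix.ProjectiveSpecialLinearGroup ι F)) :
    ∃ r : F, (A : Matrix ι ι F).det = r ^ Fintype.card ι := by
  obtain ⟨x, hx⟩ := h
  obtain ⟨s, rfl⟩ := pr_surjective x
  rw [conj_pr] at hx
  have h1 : lift (cj ((Matrix.SpecialLinearGroup.toGL s)⁻¹ * A) * fld (1 : F ≃+* F)) =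
      lift (fld (1 : F ≃+* F)) := by
    rw [map_one fld, mul_one, map_mul cj, map_mul lift, ← hx, ← map_mul, ← map_mul,
      inv_mul_cancel, map_one]
  obtain ⟨⟨r, hr⟩, -⟩ := injective_aux h1
  refine ⟨r, ?_⟩
  have h2 := congrArg Matrix.det hr
  rw [scalar_apply, det_diagonal, Finset.prod_const, Finset.card_univ, Units.val_mul, det_mul] at h2
  have h3 : (((Matrix.SpecialLinearGroup.toGL s)⁻¹ : GL ι F) : Matrix ι ι F).det = 1 := by
    rw [← map_inv]
    exact (s⁻¹).2
  rw [h3, one_mul] at h2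
  exact h2.symm

theorem fld_cj (σ : F ≃+* F) (A : GL ι F) :
    fld σ * cj A = cj (Matrix.GeneralLinearGroup.map (σ : F →+* F) A) * fld σ := by
  apply MulEquiv.ext
  intro g
  apply Subtype.ext
  rw [MulAut.mul_apply, MulAut.mul_apply, coe_cj]
  have h1 : ∀ x : Matrix.SpecialLinearGroup ι F, (fld σ x : Matrix ι ι F) =
      (x : Matrix ι ι F).map (σ : F →+* F) := fun _ => rfl
  rw [h1, h1, coe_cj, Matrix.map_mul, Matrix.map_mul, ← map_inv]
  rfl

/-- inverse transpose of an invertible matrix -/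
def it (A : GL ι F) : GL ι F :=
  ⟨((A⁻¹ : GL ι F) : Matrix ι ι F)ᵀ, (A : Matrix ι ι F)ᵀ, by
    rw [← transpose_mul, ← Units.val_mul, mul_inv_cancel, Units.val_one, transpose_one], by
    rw [← transpose_mul, ← Units.val_mul, inv_mul_cancel, Units.val_one, transpose_one]⟩

theorem coe_it (A : GL ι F) : (it A : Matrix ι ι F) = ((A⁻¹ : GL ι F) : Matrix ι ι F)ᵀ := rfl

theorem itr_cj (A : GL ι F) : itr * cj A = cj (it A) * itr := by
  apply MulEquiv.ext
  intro g
  apply Subtype.ext
  rw [MulAut.mul_apply, MulAut.mul_apply, coe_cj, coe_itr, coe_itr]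
  have h1 : (cj A g)⁻¹ = cj A g⁻¹ := (map_inv (cj A) g).symm
  rw [h1, coe_cj, transpose_mul, transpose_mul, ← mul_assoc]
  rfl

theorem itr_fld (σ : F ≃+* F) : (itr * fld σ : MulAut (Matrix.SpecialLinearGroup ι F)) = fld σ * itr := by
  apply MulEquiv.ext
  intro g
  apply Subtype.ext
  rw [MulAut.mul_apply, MulAut.mul_apply, coe_itr, ← map_inv (fld σ)]
  rfl

end aut

end Cfsg.Agent.H422.AutBase
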